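import Cfsg.Agent.Lib.PrimeDegrees.Basic
import Cfsg.Agent.Lib.Char.Burnside
import Cfsg.Agent.Lib.Invol.SelfNormalizing
import Cfsg.Agent.S0189
import Cfsg.Agent.S4441
import Cfsg.Agent.Lib.Blocks.CentralChar

/-!
# No nonabelian simple group has all nonlinear degrees prime
-/

set_option autoImplicit false
set_option linter.style.haveILetI false

namespace CfsgLib.PrimeDegrees

open Cfsg CfsgLib.Char
open scoped ComplexConjugate CfsgLib.Char commutatorElement

variable {G : Type*} [Group G] [Finite G]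

theorem norm_central {χ : G → ℂ} (hχ : IsIrrCharacter G χ) {d : ℕ} (hd : χ 1 = d) {z : G}
    (hz : z ∈ Subgroup.center G) : ‖χ z‖ = d := by
  classical
  obtain ⟨n, ρ, hρ, rfl⟩ := hχ
  rw [Representation.char_one, Nat.cast_inj] at hd
  rw [← hd]
  let T : Representation.IntertwiningMap ρ ρ := ⟨ρ z, fun g => by
    rw [← Module.End.mul_eq_comp, ← Module.End.mul_eq_comp, ← map_mul, ← map_mul,
      Subgroup.mem_center_iff.mp hz g]⟩
  obtain ⟨c, hc⟩ :=
    (Representation.IsIrreducible.algebraMap_intertwiningMap_bijective_of_isAlgClosed (ρ := ρ)).2 T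
  refine (norm_character_eq_iff ρ z).mpr ⟨c, ?_⟩
  have h := congrArg Representation.IntertwiningMap.toLinearMap hc
  refine Eq.trans h.symm ?_
  ext v; simp [Algebra.algebraMap_eq_smul_one]

theorem eq_one_of_kernel [IsSimpleGroup G] {χ : G → ℂ} (hχ : IsIrrCharacter G χ) {d : ℕ}
    (hd : χ 1 = d) (hd1 : d ≠ 1) {g : G} (hg : χ g = χ 1) : g = 1 := by
  classical
  haveI := Fintype.ofFinite G
  obtain ⟨K, hK, hmem, hconst⟩ := exists_kernel (isCharacter_of_isIrr hχ)
  rcases hK.eq_bot_or_eq_top with e | e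
  · have := (hmem g).mpr hg
    rwa [e, Subgroup.mem_bot] at this
  · exfalso
    have hcon : χ = (d : ℂ) • fun _ => (1 : ℂ) := by
      funext x
      have := (hmem x).mp (e ▸ Subgroup.mem_top x)
      simpa [hd] using this
    have h1 := classInner_irr_self hχ
    rw [hcon, classInner_smul_left, classInner_smul_right,
      classInner_irr_self isIrrCharacter_one, mul_one, map_natCast] at h1
    have h2 : d * d = 1 := by exact_mod_cast h1
    exact hd1 (Nat.eq_one_of_mul_eq_one_right h2)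

variable [IsSimpleGroup G] (hna : ∃ a b : G, a * b ≠ b * a) (hG : HasPrimeDegrees G)

include hna

theorem center_eq_bot : Subgroup.center G = ⊥ := by
  rcases (inferInstance : (Subgroup.center G).Normal).eq_bot_or_eq_top with h | h
  · exact h
  · obtain ⟨a, b, hab⟩ := hna
    exact absurd (Subgroup.mem_center_iff.mp (h ▸ Subgroup.mem_top b) a) hab

theorem vanish_of_coprime {χ : G → ℂ} (hχ : IsIrrCharacter G χ) {d : ℕ} (hd : χ 1 = d)
    (hd1 : d ≠ 1) {x : G} (hx : x ≠ 1)
    (hcop : d.Coprime (Subgroup.centralizer ({x} : Set G)).index) : χ x = 0 := by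
  have hfaith := fun g => eq_one_of_kernel hχ hd hd1 (g := g)
  obtain ⟨n, ρ, hρ, rfl⟩ := hχ
  have hd' := hd
  rw [Representation.char_one, Nat.cast_inj] at hd'
  refine (burnside_zero_or_scalar ρ x (by rw [hd']; exact hcop)).resolve_right fun h => hx ?_
  obtain ⟨ω, hω⟩ := (norm_character_eq_iff ρ x).mp h
  have hc : x ∈ Subgroup.center G := Subgroup.mem_center_iff.mpr fun g => by
    refine (commutatorElement_eq_one_iff_mul_comm.mp (hfaith ⁅g, x⁆ ?_))
    have hcomm : Commute (ρ g) (ρ x) := by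
      rw [hω]; exact Commute.smul_right (Commute.one_right _) ω
    have : ρ ⁅g, x⁆ = 1 := by
      rw [commutatorElement_def, mul_assoc (g * x), map_mul, ← mul_inv_rev, map_mul, hcomm.eq,
        ← map_mul, ← map_mul, mul_inv_cancel, map_one]
    simp only [Representation.character, this, map_one]
  rwa [center_eq_bot hna, Subgroup.mem_bot] at hc

/-- A character of prime degree `p` forces Sylow `p`-subgroups of order `p`. -/
theorem sylow_card_eq {χ : G → ℂ} (hχ : IsIrrCharacter G χ) {p : ℕ} [hp : Fact p.Prime]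
    (hd : χ 1 = p) (P : Sylow p G) : Nat.card P = p := by
  classical
  haveI := Fintype.ofFinite G
  haveI : Fintype P := Fintype.ofFinite _
  have hp1 : p ≠ 1 := hp.out.one_lt.ne'
  have hP1 : (P : Subgroup G) ≠ ⊥ := by
    refine P.ne_bot_of_dvd_card ?_
    obtain ⟨n, hn, -, hdvd⟩ := exists_degree_dvd_card hχ
    rw [hd, Nat.cast_inj] at hn
    exact hn ▸ hdvd
  have hcent : ∀ x ∈ (P : Subgroup G), (∀ y ∈ (P : Subgroup G), y * x = x * y) → x ≠ 1 →
      χ x = 0 := fun x _ hxc hx1 => by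
    refine vanish_of_coprime hna hχ hd hp1 hx1 ((hp.out.coprime_iff_not_dvd).mpr fun h => ?_)
    exact P.not_dvd_index (h.trans (Subgroup.index_dvd_of_le fun y hy =>
      Subgroup.mem_centralizer_singleton_iff.mpr (hxc y hy)))
  haveI : Nontrivial (P : Subgroup G) := (Subgroup.nontrivial_iff_ne_bot _).mpr hP1
  have hnt := P.2.center_nontrivial
  obtain ⟨⟨z, hzc⟩, hz1⟩ := exists_ne (1 : Subgroup.center (P : Subgroup G))
  have hz1' : z ≠ 1 := fun e => hz1 (Subtype.ext e)
  have hzero : χ (z : G) = 0 := hcent z z.2 (fun y hy => congrArg Subtype.val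
    (Subgroup.mem_center_iff.mp hzc ⟨y, hy⟩)) (fun e => hz1' (Subtype.ext e))
  -- every constituent of the restriction is linear
  have hab : ∀ a ∈ (P : Subgroup G), ∀ b ∈ (P : Subgroup G), a * b = b * a := by
    intro a ha b hb
    obtain ⟨m, hm⟩ := exists_multiplicities (isCharacter_restrict (P : Subgroup G) (isCharacter_of_isIrr hχ))
    choose e he0 he using fun ψ : IrrCharacter (P : Subgroup G) => exists_nat_degree_irr ψ.2
    have hsum : ∑ ψ, m ψ * e ψ = p := by
      have h := congrFun hm 1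
      simp only [Finset.sum_apply, Pi.smul_apply, smul_eq_mul, he, OneMemClass.coe_one, hd] at h
      exact_mod_cast h.symm
    have hlin : ∀ ψ, m ψ ≠ 0 → e ψ = 1 := by
      intro ψ hψ
      have hle : m ψ * e ψ ≤ p :=
        hsum ▸ Finset.single_le_sum (f := fun ψ => m ψ * e ψ) (fun _ _ => Nat.zero_le _) (Finset.mem_univ ψ)
      obtain ⟨k, hk⟩ := P.2.exists_card_eq
      obtain ⟨n, hn, -, hdvd⟩ := exists_degree_dvd_card ψ.2
      rw [he ψ, Nat.cast_inj] at hn
      subst hn
      rw [hk] at hdvd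
      obtain ⟨j, -, hj⟩ := (Nat.dvd_prime_pow hp.out).mp hdvd
      rcases j with _ | j
      · rw [hj, pow_zero]
      exfalso
      have hpe : p ∣ e ψ := hj ▸ dvd_pow_self p j.succ_ne_zero
      have hep : e ψ = p := le_antisymm ((Nat.le_mul_of_pos_left _ (Nat.pos_of_ne_zero hψ)).trans hle)
        (Nat.le_of_dvd (he0 ψ) hpe)
      have hm1 : m ψ = 1 := le_antisymm (Nat.le_of_mul_le_mul_right
        (by rw [one_mul]; rw [hep] at hle; exact hle) hp.out.pos) (Nat.pos_of_ne_zero hψ)
      have hothers : ∀ φ, φ ≠ ψ → m φ = 0 := by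
        intro φ hφ
        have := Finset.add_le_sum (f := fun ψ => m ψ * e ψ) (s := Finset.univ)
          (fun _ _ => Nat.zero_le _) (Finset.mem_univ φ) (Finset.mem_univ ψ) hφ
        rw [hsum] at this
        simp only [hm1, hep, one_mul] at this
        exact (Nat.mul_eq_zero.mp (by omega : m φ * e φ = 0)).resolve_right (he0 φ).ne'
      have hz := congrFun hm z
      rw [Finset.sum_apply, Finset.sum_eq_single ψ (fun φ _ hφ => by simp [hothers φ hφ])
        (by simp), Pi.smul_apply, hm1, Nat.cast_one, one_smul, hzero] at hz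
      have hn := norm_central ψ.2 (he ψ) hzc
      rw [← hz, norm_zero, hep] at hn
      exact hp.out.ne_zero (by exact_mod_cast hn.symm)
    refine commutatorElement_eq_one_iff_mul_comm.mp (eq_one_of_kernel hχ hd hp1 ?_)
    have hg : (⁅a, b⁆ : G) = ((⁅(⟨a, ha⟩ : (P : Subgroup G)), ⟨b, hb⟩⁆ : (P : Subgroup G)) : G) := rfl
    have h1 := congrFun hm ⁅(⟨a, ha⟩ : (P : Subgroup G)), ⟨b, hb⟩⁆
    have h2 := congrFun hm 1
    simp only [← hg, OneMemClass.coe_one] at h1 h2
    rw [h1, h2, Finset.sum_apply, Finset.sum_apply]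
    refine Finset.sum_congr rfl fun ψ _ => ?_
    by_cases hψ : m ψ = 0
    · simp [hψ]
    have hl : (ψ : ↥(P : Subgroup G) → ℂ) 1 = 1 := by rw [he, hlin ψ hψ, Nat.cast_one]
    have hker := Abelianization.commutator_subset_ker (linearHom (isCharacter_of_isIrr ψ.2) hl)
      (Subgroup.commutator_mem_commutator (Subgroup.mem_top (⟨a, ha⟩ : (P : Subgroup G)))
        (Subgroup.mem_top ⟨b, hb⟩))
    rw [Pi.smul_apply, Pi.smul_apply, hl,
      ← linearHom_apply (isCharacter_of_isIrr ψ.2) hl, MonoidHom.mem_ker.mp hker, Units.val_one]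
  obtain ⟨k, hk⟩ := Cfsg.Agent.S0189.result p P χ (isCharacter_of_isIrr hχ) fun g hg hg1 =>
    hcent g hg (fun y hy => hab y hy g hg) hg1
  have hk' : p = Nat.card P * k := by exact_mod_cast hd.symm.trans hk
  rcases (Nat.dvd_prime hp.out).mp ⟨k, hk'⟩ with h | h
  · exact absurd (Subgroup.card_eq_one.mp h) hP1
  · exact h

theorem relIndex_ne_one {p : ℕ} [hp : Fact p.Prime] (P : Sylow p G) (hP : Nat.card P = p) :
    (Subgroup.centralizer ((P : Subgroup G) : Set G)).relIndex
      (Subgroup.normalizer ((P : Subgroup G) : Set G)) ≠ 1 := by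
  intro h
  have hle := Subgroup.relIndex_eq_one.mp h
  have hc := MonoidHom.ker_transferSylow_isComplement' P hle
  rcases (MonoidHom.transferSylow P hle).normal_ker.eq_bot_or_eq_top with e | e <;>
    rw [e] at hc
  · have htop : (P : Subgroup G) = ⊤ := Subgroup.isComplement'_bot_left.mp hc
    haveI : IsCyclic G := isCyclic_of_prime_card (p := p) (by rw [← hP, htop]; simp)
    obtain ⟨a, b, hab⟩ := hna
    exact hab (IsCyclic.commGroup.mul_comm a b)
  · have hbot : (P : Subgroup G) = ⊥ := Subgroup.isComplement'_top_left.mp hc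
    rw [hbot, Subgroup.card_bot] at hP
    exact hp.out.one_lt.ne hP

theorem not_degree_two {χ : G → ℂ} (hχ : IsIrrCharacter G χ) (hd : χ 1 = (2 : ℕ)) : False := by
  haveI : Fact (Nat.Prime 2) := ⟨Nat.prime_two⟩
  obtain ⟨P⟩ : Nonempty (Sylow 2 G) := inferInstance
  have hP := sylow_card_eq hna hχ hd P
  refine relIndex_ne_one hna P hP (Subgroup.relIndex_eq_one.mpr fun g hg => ?_)
  refine Subgroup.mem_centralizer_iff.mpr fun x hx => ?_
  by_cases hx1 : x = 1
  · simp [hx1]
  obtain ⟨u, v, huv, huniv⟩ := Nat.card_eq_two_iff.mp hP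
  have key : ∀ y ∈ (P : Subgroup G), y ≠ 1 → y = x := by
    intro y hy hy1
    have h1 : ∀ w : (P : Subgroup G), w = u ∨ w = v := fun w => by
      have := Set.mem_univ w
      rw [← huniv] at this
      simpa using this
    have a := h1 1; have b := h1 ⟨x, hx⟩; have c := h1 ⟨y, hy⟩
    have hbx : (⟨x, hx⟩ : (P : Subgroup G)) ≠ 1 := fun e => hx1 (congrArg Subtype.val e)
    have hcy : (⟨y, hy⟩ : (P : Subgroup G)) ≠ 1 := fun e => hy1 (congrArg Subtype.val e)
    have : (⟨y, hy⟩ : (P : Subgroup G)) = ⟨x, hx⟩ := by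
      rcases a with a | a <;> rcases b with b | b <;> rcases c with c | c <;> simp_all
    exact congrArg Subtype.val this
  have := key _ ((Subgroup.mem_normalizer_iff.mp hg x).mp hx) (by simpa using hx1)
  calc x * g = g * x * g⁻¹ * g := by rw [this]
    _ = g * x := by group

include hG

theorem simple_false : False := by
  classical
  haveI := Fintype.ofFinite G
  set D := (Finset.univ.image fun χ : IrrCharacter G => charDegree (χ : G → ℂ)).filter Nat.Prime
  have hnl : ∀ χ : IrrCharacter G, χ ≠ Blocks.trivIrr G →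
      (charDegree (χ : G → ℂ)).Prime := by
    intro χ hχ
    have hd := (Blocks.irr_degree_eq χ).1
    refine (hG χ _ hd).resolve_left fun h1 => hχ (Subtype.ext (funext fun g => ?_))
    rw [h1, Nat.cast_one] at hd
    have hker := (linearHom (isCharacter_of_isIrr χ.2) hd).normal_ker.eq_bot_or_eq_top
    rcases hker with e | e
    · exfalso
      obtain ⟨a, b, hab⟩ := hna
      exact hab ((MonoidHom.ker_eq_bot_iff _).mp e (by rw [map_mul, map_mul, mul_comm]))
    · rw [← linearHom_apply (isCharacter_of_isIrr χ.2) hd,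
        MonoidHom.mem_ker.mp (e ▸ Subgroup.mem_top g)]
      rfl
  have hDne : D.Nonempty := by
    obtain ⟨χ, hχ⟩ : ∃ χ : IrrCharacter G, χ ≠ Blocks.trivIrr G := by
      by_contra h
      push_neg at h
      obtain ⟨a, b, hab⟩ := hna
      refine hab (commutatorElement_eq_one_iff_mul_comm.mp (eq_one_of_forall_irr fun χ => ?_))
      rw [h χ]; rfl
    exact ⟨_, Finset.mem_filter.mpr ⟨Finset.mem_image.mpr ⟨χ, Finset.mem_univ _, rfl⟩, hnl χ hχ⟩⟩
  set p := D.max' hDne
  obtain ⟨hpimg, hp⟩ := Finset.mem_filter.mp (D.max'_mem hDne)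
  obtain ⟨χ₀, -, hχ₀⟩ := Finset.mem_image.mp hpimg
  haveI := Fact.mk hp
  have hd₀ : (χ₀ : G → ℂ) 1 = p := by rw [(Blocks.irr_degree_eq χ₀).1, hχ₀]
  have hodd : p ≠ 2 := fun h => not_degree_two hna χ₀.2 (by rw [hd₀, h])
  obtain ⟨P⟩ : Nonempty (Sylow p G) := inferInstance
  have hP := sylow_card_eq hna χ₀.2 hd₀ P
  obtain ⟨M, hM⟩ := Blocks.exists_isPModular hp
  obtain ⟨X, Y, -, -, hXc, -, δ, ε, hX, -⟩ :=
    Cfsg.Agent.S4441.result p M hM hodd P hP _ rfl
  set e := (Subgroup.centralizer ((P : Subgroup G) : Set G)).relIndex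
    (Subgroup.normalizer ((P : Subgroup G) : Set G)) with he
  have he2 : 2 ≤ e := by
    have h1 : e ≠ 1 := relIndex_ne_one hna P hP
    have h0 : e ≠ 0 := Subgroup.index_ne_zero_of_finite
    omega
  obtain ⟨χ, hχX, hχ⟩ : ∃ χ ∈ X, χ ≠ Blocks.trivIrr G := by
    by_contra h
    push_neg at h
    have hsub : X ⊆ {Blocks.trivIrr G} := fun χ hχ => h χ hχ
    have := Set.ncard_le_ncard hsub
    rw [Set.ncard_singleton, ← Nat.card_coe_set_eq, hXc] at this
    omega
  set q := charDegree (χ : G → ℂ)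
  have hq : q.Prime := hnl χ hχ
  have hq2 : q ≠ 2 := fun h => not_degree_two hna χ.2 (h ▸ (Blocks.irr_degree_eq χ).1)
  have hqp : q ≤ p := D.le_max' q
    (Finset.mem_filter.mpr ⟨Finset.mem_image.mpr ⟨χ, Finset.mem_univ _, rfl⟩, hq⟩)
  have hq1 := hq.two_le
  have hpodd := Nat.odd_iff.mp (hp.odd_of_ne_two hodd)
  have hqodd := Nat.odd_iff.mp (hq.odd_of_ne_two hq2)
  obtain ⟨hδ, hmod, -⟩ := hX χ hχX
  obtain ⟨k, hk⟩ := Int.modEq_iff_dvd.mp hmod
  rcases hδ with h | h <;> rw [h] at hk
  · rcases le_or_gt 0 k with h0 | h0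
    · nlinarith
    rcases eq_or_lt_of_le (show k ≤ -1 by omega) with h1 | h1
    · subst h1; omega
    · nlinarith
  · rcases le_or_gt 0 k with h0 | h0
    · nlinarith
    rcases eq_or_lt_of_le (show k ≤ -1 by omega) with h1 | h1
    · subst h1; omega
    · nlinarith

end CfsgLib.PrimeDegrees
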