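import Cfsg.Agent.Lib.Char.Gallagher
import Cfsg.Agent.Lib.Char.MultiplicityDvd
import Cfsg.Agent.Lib.Char.Constituents
import Cfsg.Agent.Lib.Char.Kernel

/-!
# Groups whose nonlinear irreducible characters have prime degree
-/

set_option autoImplicit false

namespace CfsgLib.PrimeDegrees

open Cfsg CfsgLib.Char
open scoped ComplexConjugate CfsgLib.Char commutatorElement

variable {G : Type*} [Group G]

/-- Every irreducible character has degree one or a prime. -/
def HasPrimeDegrees (G : Type*) [Group G] : Prop :=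
  ∀ χ : IrrCharacter G, ∀ d : ℕ, (χ : G → ℂ) 1 = d → d = 1 ∨ d.Prime

theorem eq_of_dvd {d : ℕ} (h : d = 1 ∨ d.Prime) {a : ℕ} (ha : a ∣ d) : a = 1 ∨ a.Prime := by
  rcases h with rfl | h
  · exact Or.inl (Nat.dvd_one.mp ha)
  · rcases (Nat.dvd_prime h).mp ha with rfl | rfl
    · exact Or.inl rfl
    · exact Or.inr h

/-- The numerical form of Clifford's theorem. -/
theorem exists_mul_eq_degree [Fintype G] (N : Subgroup G) [N.Normal] [Fintype N] {χ : G → ℂ}
    (hχ : IsIrrCharacter G χ) {θ : N → ℂ} (hθ : IsIrrCharacter N θ)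
    (hcon : classInner (fun n : N => χ n) θ ≠ 0) {d a : ℕ} (hd : χ 1 = d) (ha : θ 1 = a) :
    ∃ e : ℕ, classInner (fun n : N => χ n) θ = e ∧ e ∣ N.index ∧
      (orbit N θ).card ∣ N.index ∧ d = e * ((orbit N θ).card * a) := by
  classical
  obtain ⟨e, he, hed⟩ := multiplicity_dvd_index N hθ hχ hcon
  refine ⟨e, he, hed, ?_, ?_⟩
  · rw [card_orbit_eq_index]
    exact Subgroup.index_dvd_of_le
      (le_inertia N (isClassFunction_of_isCharacter (isCharacter_of_isIrr hθ)))
  · have := clifford_degree N hχ hθ hcon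
    rw [hd, he, ha] at this
    exact_mod_cast this

theorem hasPrimeDegrees_normal [Finite G] (h : HasPrimeDegrees G) (N : Subgroup G) [N.Normal] :
    HasPrimeDegrees N := by
  classical
  haveI := Fintype.ofFinite G
  intro θ a ha
  have h1 : indFun N (θ : N → ℂ) 1 ≠ 0 := by
    rw [indFun_one]
    exact mul_ne_zero (Nat.cast_ne_zero.mpr N.index_ne_zero_of_finite) (irr_degree_ne_zero θ.2)
  obtain ⟨m, hm⟩ := exists_multiplicities (isCharacter_indFun N (isCharacter_of_isIrr θ.2))
  obtain ⟨χ, hχ⟩ : ∃ χ, m χ ≠ 0 := by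
    by_contra h'
    push_neg at h'
    refine h1 ?_
    rw [hm]
    simp [h']
  have hcon : classInner (fun n : N => (χ : G → ℂ) n) (θ : N → ℂ) ≠ 0 := by
    rw [← frobenius_reciprocity' N _ (isClassFunction_of_isCharacter (isCharacter_of_isIrr χ.2)),
      ← classInner_conj_symm, hm, classInner_sum_smul_irr]
    simpa using hχ
  obtain ⟨d, -, hd⟩ := exists_nat_degree_irr χ.2
  obtain ⟨e, -, -, -, hde⟩ := exists_mul_eq_degree N χ.2 θ.2 hcon hd ha
  exact eq_of_dvd (h χ d hd) ⟨e * (orbit N (θ : N → ℂ)).card, by rw [hde]; ring⟩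

theorem hasPrimeDegrees_quotient [Finite G] (h : HasPrimeDegrees G) (N : Subgroup G) [N.Normal] :
    HasPrimeDegrees (G ⧸ N) := by
  intro χ d hd
  exact h ⟨_, isIrrCharacter_comp (f := QuotientGroup.mk' N) (QuotientGroup.mk'_surjective N) χ.2⟩ d
    (by simpa using hd)

/-- A degree prime to the index restricts irreducibly to a normal subgroup. -/
theorem restrict_irr_of_coprime [Finite G] (N : Subgroup G) [N.Normal] {χ : G → ℂ}
    (hχ : IsIrrCharacter G χ) {d : ℕ} (hd : χ 1 = d) (hcop : d.Coprime N.index) :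
    IsIrrCharacter N (fun n : N => χ n) := by
  classical
  haveI := Fintype.ofFinite G
  obtain ⟨θ, hθ⟩ := exists_constituent N (isCharacter_of_isIrr hχ) (irr_degree_ne_zero hχ)
  obtain ⟨a, -, ha⟩ := exists_nat_degree_irr θ.2
  obtain ⟨e, he, hedvd, hodvd, hde⟩ := exists_mul_eq_degree N hχ θ.2 hθ hd ha
  have he1 : e = 1 :=
    Nat.Coprime.eq_one_of_dvd (hcop.coprime_dvd_left (Dvd.intro _ hde.symm)) hedvd
  have ho1 : (orbit N (θ : N → ℂ)).card = 1 := by
    refine Nat.Coprime.eq_one_of_dvd (hcop.coprime_dvd_left ⟨e * a, ?_⟩) hodvd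
    rw [hde]; ring
  have hinv : ∀ g, conjBy N (θ : N → ℂ) g = θ := fun g => by
    obtain ⟨φ, hφ⟩ := Finset.card_eq_one.mp ho1
    have h1 : (θ : N → ℂ) ∈ orbit N (θ : N → ℂ) := self_mem_orbit N _
    have h2 : conjBy N (θ : N → ℂ) g ∈ orbit N (θ : N → ℂ) := (mem_orbit N).mpr ⟨g, rfl⟩
    rw [hφ, Finset.mem_singleton] at h1 h2
    rw [h2, ← h1]
  rw [clifford_invariant N hχ θ.2 hinv hθ, he, he1, Nat.cast_one, one_smul]
  exact θ.2

/-- Multiplying a character with irreducible restriction by one of the quotient. -/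
theorem isIrr_mul_inflate [Finite G] (N : Subgroup G) [N.Normal] {χ : G → ℂ}
    (hχ : IsIrrCharacter G χ) (hres : IsIrrCharacter N (fun n : N => χ n)) {β : G ⧸ N → ℂ}
    (hβ : IsIrrCharacter (G ⧸ N) β) :
    IsIrrCharacter G ((fun g : G => β g) * χ) := by
  classical
  haveI := Fintype.ofFinite G
  have hcl := isClassFunction_of_isCharacter (isCharacter_of_isIrr hχ)
  have hone : IsIrrCharacter N (fun _ : N => (1 : ℂ)) := isIrrCharacter_one
  have h := gallagher N (φ := fun _ => 1) (θ := fun n : N => χ n) hone (fun g => rfl)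
    (fun g => conjBy_restrict N hcl g)
    (by rw [show (fun _ : N => (1 : ℂ)) * (fun n : N => χ n) = fun n : N => χ n from
      funext fun n => one_mul _]; exact hres) hχ (fun n => rfl)
  have hb : IsIrrCharacter G (fun g : G => β g) :=
    isIrrCharacter_comp (f := QuotientGroup.mk' N) (QuotientGroup.mk'_surjective N) hβ
  refine (h.mapsTo ⟨hb, ?_⟩).1
  rw [← classInner_conj_symm, frobenius_reciprocity' N _
    (isClassFunction_of_isCharacter (isCharacter_of_isIrr hb))]
  have hres1 : (fun n : N => β ((n : G) : G ⧸ N)) = β 1 • (fun _ : N => (1 : ℂ)) := by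
    funext n
    simp [(QuotientGroup.eq_one_iff (n : G)).mpr n.2]
  rw [hres1, classInner_smul_left, classInner_irr_self hone, mul_one]
  simpa using irr_degree_ne_zero hβ

end CfsgLib.PrimeDegrees
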