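import Cfsg.Agent.Lib.PrimeDegrees.Simple
import Cfsg.Agent.S0187

/-!
# Groups with prime degrees: solvability and the number of degrees
-/

set_option autoImplicit false
set_option linter.style.haveILetI false

namespace CfsgLib.PrimeDegrees

open Cfsg CfsgLib.Char
open scoped ComplexConjugate CfsgLib.Char commutatorElement

universe u

theorem solvable {G : Type u} [Group G] [Finite G] (h : HasPrimeDegrees G) :
    Group.IsSolvable G := by
  suffices H : ∀ n : ℕ, ∀ (G : Type u) [Group G] [Finite G], Nat.card G = n → HasPrimeDegrees G →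
      Group.IsSolvable G from H _ G rfl h
  intro n
  induction n using Nat.strong_induction_on with
  | _ n ih =>
    intro G _ _ hn h
    by_cases hc : commutator G = ⊤
    · rcases subsingleton_or_nontrivial G with hs | hnt
      · infer_instance
      exfalso
      obtain ⟨M, hM, hne, hmax⟩ := Invol.SelfNorm.exists_maximal_normal (G := G)
      haveI := Invol.SelfNorm.isSimpleGroup_quotient M hne hmax
      refine simple_false (G := G ⧸ M) ?_ (hasPrimeDegrees_quotient h M)
      by_contra hab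
      push_neg at hab
      refine hne (top_le_iff.mp (hc ▸ ?_))
      rw [commutator_def, Subgroup.commutator_le]
      intro a _ b _
      rw [← QuotientGroup.eq_one_iff]
      show (QuotientGroup.mk' M) ⁅a, b⁆ = 1
      rw [map_commutatorElement, commutatorElement_eq_one_iff_mul_comm]
      exact hab _ _
    · haveI : Group.IsSolvable (commutator G) := ih _ (hn ▸ lt_of_le_of_ne
        (Subgroup.card_le_card_group _) fun e => hc (Subgroup.eq_top_of_card_eq _ e))
        (commutator G) rfl (hasPrimeDegrees_normal h _)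
      haveI : Group.IsSolvable (G ⧸ commutator G) := (inferInstance : Group.IsSolvable (Abelianization G))
      exact solvable_of_ker_le_range (commutator G).subtype (QuotientGroup.mk' (commutator G))
        (by simp)

/-- Two primes cover the order of a group all of whose non-trivial normal subgroups contain the
derived subgroup. -/
theorem two_primes {Q : Type u} [Group Q] [Finite Q] [Group.IsSolvable Q] (h : HasPrimeDegrees Q)
    (hna : commutator Q ≠ ⊥) (hmin : ∀ M : Subgroup Q, M.Normal → M ≠ ⊥ → commutator Q ≤ M) :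
    ∃ s : Finset ℕ, s.card ≤ 2 ∧ ∀ r : ℕ, r.Prime → r ∣ Nat.card Q → r ∈ s := by
  classical
  haveI := Fintype.ofFinite Q
  set N := commutator Q with hN
  haveI hNn : N.Normal := inferInstance
  have hconj : ∀ a b : Q, ⁅a, b⁆ ∈ N := fun a b =>
    Subgroup.commutator_mem_commutator (Subgroup.mem_top a) (Subgroup.mem_top b)
  have hNlt : ⁅N, N⁆ < N := by
    refine lt_of_le_of_ne ((Subgroup.commutator_le_right N N)) fun e => ?_
    refine hna (le_bot_iff.mp ?_)
    obtain ⟨k, hk⟩ := (Group.isSolvable_def Q).mp inferInstance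
    rw [← hk]
    clear hk
    induction k with
    | zero => exact le_top
    | succ k ih => rw [derivedSeries_succ, ← e]; exact Subgroup.commutator_mono ih ih
  have hab : ∀ a ∈ N, ∀ b ∈ N, a * b = b * a := by
    intro a ha b hb
    have hbot : ⁅N, N⁆ = ⊥ := by
      by_contra hne
      exact absurd (hmin _ inferInstance hne) (not_le_of_gt hNlt)
    exact commutatorElement_eq_one_iff_mul_comm.mp
      (Subgroup.mem_bot.mp (hbot ▸ Subgroup.commutator_mem_commutator ha hb))
  -- the exponent of the derived subgroup is a prime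
  obtain ⟨q, hq, hqN⟩ := Nat.exists_prime_and_dvd (fun e => hna (Subgroup.card_eq_one.mp e))
  haveI := Fact.mk hq
  obtain ⟨⟨x, hxN⟩, hx⟩ := exists_prime_orderOf_dvd_card' (G := N) q hqN
  have hpow : ∀ y ∈ N, y ^ q = 1 := by
    let T : Subgroup Q :=
      { carrier := {y | y ∈ N ∧ y ^ q = 1}
        one_mem' := ⟨N.one_mem, one_pow q⟩
        mul_mem' := fun {a b} ha hb => ⟨N.mul_mem ha.1 hb.1, by
          rw [Commute.mul_pow (hab a ha.1 b hb.1), ha.2, hb.2, one_mul]⟩
        inv_mem' := fun {a} ha => ⟨N.inv_mem ha.1, by rw [inv_pow, ha.2, inv_one]⟩ }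
    haveI hT : T.Normal := ⟨fun y hy g => ⟨hNn.conj_mem y hy.1 g, by
      rw [conj_pow, hy.2, mul_one, mul_inv_cancel]⟩⟩
    have hxT : x ∈ T := ⟨hxN, by
      have := pow_orderOf_eq_one (⟨x, hxN⟩ : N)
      rw [hx] at this
      simpa using congrArg Subtype.val this⟩
    have hTne : T ≠ ⊥ := fun e => by
      rw [e, Subgroup.mem_bot] at hxT
      subst hxT
      rw [Subgroup.orderOf_mk, orderOf_one] at hx
      exact hq.one_lt.ne hx
    exact fun y hy => (hmin T hT hTne hy).2
  have hNq : IsPGroup q N := fun y => ⟨1, Subtype.ext (by simpa using hpow y y.2)⟩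
  have hxcoe : x ≠ 1 := fun e => by
    subst e
    rw [Subgroup.orderOf_mk, orderOf_one] at hx
    exact hq.one_lt.ne hx
  set C := Subgroup.centralizer (N : Set Q) with hC
  by_cases hCtop : C = ⊤
  · refine ⟨{q}, by simp, fun r hr hrd => Finset.mem_singleton.mpr ?_⟩
    haveI := Fact.mk hr
    haveI : Group.IsNilpotent Q := by
      letI : CommGroup (Abelianization Q) := inferInstance
      refine Subgroup.isNilpotent_of_ker_le_center (Abelianization.of (G := Q)) ?_
      rw [Abelianization.ker_of]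
      exact fun n hn => Subgroup.mem_center_iff.mpr fun g => by
        have hg : g ∈ C := by rw [hCtop]; exact Subgroup.mem_top g
        exact (Subgroup.mem_centralizer_iff.mp hg n hn).symm
    obtain ⟨R⟩ : Nonempty (Sylow r Q) := inferInstance
    have hxR : x ∈ (R : Subgroup Q) :=
      hmin _ inferInstance (R.ne_bot_of_dvd_card hrd) hxN
    obtain ⟨k, hk⟩ := R.2 ⟨x, hxR⟩
    have hox : orderOf x = q := by rwa [Subgroup.orderOf_mk] at hx
    have hdvd := orderOf_dvd_of_pow_eq_one (congrArg Subtype.val hk : x ^ r ^ k = 1)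
    rw [hox] at hdvd
    exact ((Nat.prime_dvd_prime_iff_eq hq hr).mp (hq.dvd_of_dvd_pow hdvd)).symm
  -- fixed-point-free action
  have hfix : ∀ g, g ∉ C → ∀ n ∈ N, g * n = n * g → n = 1 := by
    intro g hg
    let D : Subgroup Q := N ⊓ Subgroup.centralizer ({g} : Set Q)
    haveI hD : D.Normal := ⟨fun n hn h => by
      obtain ⟨hnN, hng⟩ := Subgroup.mem_inf.mp hn
      rw [Subgroup.mem_centralizer_singleton_iff] at hng
      refine Subgroup.mem_inf.mpr ⟨hNn.conj_mem n hnN h, ?_⟩
      rw [Subgroup.mem_centralizer_singleton_iff]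
      have hm : ⁅h⁻¹, g⁆ * n = n * ⁅h⁻¹, g⁆ := hab _ (hconj _ _) _ hnN
      have e1 : h⁻¹ * g * h = ⁅h⁻¹, g⁆ * g := by simp [commutatorElement_def, mul_assoc]
      calc h * n * h⁻¹ * g = h * (n * (h⁻¹ * g * h)) * h⁻¹ := by group
        _ = h * ((h⁻¹ * g * h) * n) * h⁻¹ := by
          have e2 : n * (⁅h⁻¹, g⁆ * g) = ⁅h⁻¹, g⁆ * g * n := by
            rw [← mul_assoc, ← hm, mul_assoc _ n g, hng, ← mul_assoc]
          rw [e1, e2]
        _ = g * (h * n * h⁻¹) := by group⟩
    intro n hn hgn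
    by_contra hn1
    have hnD : n ∈ D := Subgroup.mem_inf.mpr ⟨hn, Subgroup.mem_centralizer_singleton_iff.mpr hgn.symm⟩
    have hle := hmin D hD fun e => hn1 (Subgroup.mem_bot.mp (e ▸ hnD))
    exact hg (Subgroup.mem_centralizer_iff.mpr fun m hm => by
      have := (Subgroup.mem_inf.mp (hle hm)).2
      rw [Subgroup.mem_centralizer_singleton_iff] at this
      exact this)
  have hsurj : ∀ g, g ∉ C → ∀ m ∈ N, ∃ n ∈ N, ⁅g, n⁆ = m := by
    intro g hg
    let φ : N → N := fun n => ⟨⁅g, (n : Q)⁆, hconj _ _⟩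
    have hinj : Function.Injective φ := by
      intro a b hab'
      have h0 : ⁅g, (a : Q)⁆ = ⁅g, (b : Q)⁆ := congrArg Subtype.val hab'
      have h1 : g * ((a : Q)⁻¹ * b) = ((a : Q)⁻¹ * b) * g := by
        have hbc := hab _ (N.inv_mem a.2) _ b.2
        rw [commutatorElement_def, commutatorElement_def] at h0
        have h2 : g * (a : Q) * g⁻¹ = g * (b : Q) * g⁻¹ * ((b : Q)⁻¹ * a) := by
          calc g * (a : Q) * g⁻¹ = (g * (a : Q) * g⁻¹ * (a : Q)⁻¹) * a := by group
            _ = g * (b : Q) * g⁻¹ * ((b : Q)⁻¹ * a) := by rw [h0]; group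
        have h3 : (a : Q)⁻¹ * b = (b : Q) * (a : Q)⁻¹ := hbc
        calc g * ((a : Q)⁻¹ * b) = (g * (a : Q) * g⁻¹)⁻¹ * (g * (b : Q) * g⁻¹) * g := by group
          _ = ((a : Q)⁻¹ * b) * g := by rw [h2]; group
      have := hfix g hg _ (N.mul_mem (N.inv_mem a.2) b.2) h1
      exact Subtype.ext (inv_mul_eq_one.mp this)
    intro m hm
    obtain ⟨n, hn⟩ := (Finite.injective_iff_surjective.mp hinj) ⟨m, hm⟩
    exact ⟨n, n.2, congrArg Subtype.val hn⟩
  obtain ⟨g₀, hg₀⟩ : ∃ g, g ∉ C := by
    by_contra h'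
    push_neg at h'
    exact hCtop ((Subgroup.eq_top_iff' C).mpr h')
  have hCN : ∀ c ∈ C, c ∈ N := by
    intro c hc
    rw [hC, Subgroup.mem_centralizer_iff] at hc
    obtain ⟨n, hn, hnc⟩ := hsurj g₀ hg₀ ⁅g₀, c⁆ (hconj _ _)
    set d := n⁻¹ * c with hd
    have hdC : ∀ m ∈ N, m * d = d * m := fun m hm => by
      rw [hd, ← mul_assoc, hab m hm _ (N.inv_mem hn), mul_assoc, hc m hm, mul_assoc]
    have hdg : g₀ * d = d * g₀ := by
      rw [commutatorElement_def, commutatorElement_def] at hnc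
      have h2 : g₀ * c * g₀⁻¹ = g₀ * n * g₀⁻¹ * n⁻¹ * c := by rw [hnc]; group
      calc g₀ * d = (g₀ * n * g₀⁻¹)⁻¹ * (g₀ * c * g₀⁻¹) * g₀ := by rw [hd]; group
        _ = d * g₀ := by rw [h2, hd]; group
    have hdZ : d ∈ Subgroup.center Q := Subgroup.mem_center_iff.mpr fun h => by
      refine commutatorElement_eq_one_iff_mul_comm.mp (hfix g₀ hg₀ _ (hconj h d) ?_)
      have hm := hdC _ (hconj h⁻¹ g₀)
      have e1 : g₀ * h = h * ⁅h⁻¹, g₀⁆ * g₀ := by simp [commutatorElement_def, mul_assoc]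
      have e2 : g₀ * h * d * h⁻¹ = h * d * h⁻¹ * g₀ := by
        calc g₀ * h * d * h⁻¹ = h * ⁅h⁻¹, g₀⁆ * (g₀ * d) * h⁻¹ := by rw [e1]; group
          _ = h * (⁅h⁻¹, g₀⁆ * d) * g₀ * h⁻¹ := by rw [hdg]; group
          _ = h * d * h⁻¹ * (g₀ * h) * h⁻¹ := by rw [hm, e1]; group
          _ = h * d * h⁻¹ * g₀ := by group
      calc g₀ * ⁅h, d⁆ = g₀ * h * d * h⁻¹ * d⁻¹ := by rw [commutatorElement_def]; group
        _ = h * d * h⁻¹ * (g₀ * d⁻¹) := by rw [e2]; group
        _ = ⁅h, d⁆ * g₀ := by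
          rw [(Commute.inv_right (hdg : Commute g₀ d)).eq, commutatorElement_def]; group
    have hZ : Subgroup.center Q = ⊥ := by
      by_contra hne
      exact hCtop ((Subgroup.eq_top_iff' C).mpr fun g => Subgroup.mem_centralizer_iff.mpr fun m hm =>
        (Subgroup.mem_center_iff.mp (hmin _ inferInstance hne hm) g).symm)
    rw [hZ, Subgroup.mem_bot, hd, inv_mul_eq_one] at hdZ
    exact hdZ ▸ hn
  -- the index of the derived subgroup is a prime
  haveI : IsMulCommutative N := ⟨⟨fun a b => Subtype.ext (hab a a.2 b b.2)⟩⟩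
  letI : CommGroup N := { mul_comm := fun a b => Subtype.ext (hab a a.2 b b.2) }
  obtain ⟨φ, hφ⟩ := CommGroup.exists_apply_ne_one_of_hasEnoughRootsOfUnity N ℂ
    (show (⟨x, hxN⟩ : N) ≠ 1 from fun e => hxcoe (congrArg Subtype.val e))
  have hθ : IsIrrCharacter N (fun n : N => (φ n : ℂ)) := isIrrCharacter_monoidHom φ
  have hin : inertia N (fun n : N => (φ n : ℂ)) = N := by
    refine le_antisymm (fun g hg => ?_)
      (le_inertia N (isClassFunction_of_isCharacter (isCharacter_of_isIrr hθ)))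
    by_contra hgN
    obtain ⟨n, hn, hnm⟩ := hsurj g (fun hgC => hgN (hCN g hgC)) x hxN
    have h1 : φ ⟨g * n * g⁻¹, hNn.conj_mem n hn g⟩ = φ ⟨n, hn⟩ :=
      Units.ext ((mem_inertia_iff N).mp hg ⟨n, hn⟩)
    refine hφ ?_
    have e : (⟨x, hxN⟩ : N) = ⟨g * n * g⁻¹, hNn.conj_mem n hn g⟩ * ⟨n, hn⟩⁻¹ :=
      Subtype.ext hnm.symm
    rw [e, map_mul, map_inv, h1, mul_inv_cancel]
  have hirr : IsIrrCharacter Q (indFun N (fun n : N => (φ n : ℂ))) := by
    refine isIrr_of_norm_one (isCharacter_indFun N (isCharacter_of_isIrr hθ)) ?_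
    rw [classInner_indFun_indFun N hθ hθ, if_pos (self_mem_orbit N _), hin,
      div_self (Nat.cast_ne_zero.mpr Nat.card_pos.ne')]
  have hidx : N.index.Prime := by
    refine (h ⟨_, hirr⟩ N.index ?_).resolve_left fun h1 => ?_
    · show indFun N (fun n : N => (φ n : ℂ)) 1 = _
      rw [indFun_one, map_one, Units.val_one, mul_one]
    · have htop := Subgroup.index_eq_one.mp h1
      exact hg₀ (Subgroup.mem_centralizer_iff.mpr fun m hm => hab m hm g₀ (htop ▸ Subgroup.mem_top g₀))
  refine ⟨{q, N.index}, Finset.card_le_two, fun r hr hrd => ?_⟩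
  rw [← N.card_mul_index] at hrd
  obtain ⟨k, hk⟩ := hNq.exists_card_eq
  rcases hr.dvd_mul.mp hrd with h' | h'
  · rw [hk] at h'
    simp [(Nat.prime_dvd_prime_iff_eq hr hq).mp (hr.dvd_of_dvd_pow h')]
  · simp [(Nat.prime_dvd_prime_iff_eq hr hidx).mp h']

theorem exists_two {G : Type u} [Group G] [Finite G] (h : HasPrimeDegrees G) :
    ∃ s : Finset ℕ, s.card ≤ 2 ∧ ∀ χ : IrrCharacter G, ∀ d : ℕ, (χ : G → ℂ) 1 = d → d = 1 ∨ d ∈ s := by
  classical
  haveI := solvable h
  by_cases hab : commutator G = ⊥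
  · refine ⟨∅, by simp, fun χ d hd => Or.inl ?_⟩
    have := (Cfsg.Agent.S0187.result (G := G)).mp (fun a b =>
      commutatorElement_eq_one_iff_mul_comm.mp (Subgroup.mem_bot.mp (hab ▸
        Subgroup.commutator_mem_commutator (Subgroup.mem_top a) (Subgroup.mem_top b)))) χ
    rw [hd] at this
    exact_mod_cast this
  obtain ⟨K, ⟨hK, hKc⟩, hmax⟩ := Set.Finite.exists_maximal
    (s := {K : Subgroup G | K.Normal ∧ ¬ commutator G ≤ K}) (Set.toFinite _)
    ⟨⊥, Subgroup.normal_bot, fun e => hab (le_bot_iff.mp e)⟩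
  haveI := hK
  haveI : Group.IsSolvable (G ⧸ K) := solvable_of_surjective (f := QuotientGroup.mk' K) (QuotientGroup.mk'_surjective K)
  have hmap : commutator (G ⧸ K) = (commutator G).map (QuotientGroup.mk' K) := by
    rw [commutator_def, commutator_def, Subgroup.map_commutator, ← MonoidHom.range_eq_map,
      MonoidHom.range_eq_top.mpr (QuotientGroup.mk'_surjective K)]
  have hQna : commutator (G ⧸ K) ≠ ⊥ := fun e => hKc (by
    rw [hmap, Subgroup.map_eq_bot_iff, QuotientGroup.ker_mk'] at e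
    exact e)
  obtain ⟨s, hs, hsr⟩ := two_primes (hasPrimeDegrees_quotient h K) hQna fun M hM hne => by
    haveI := hM
    have hle : K ≤ M.comap (QuotientGroup.mk' K) := by
      intro x hx
      rw [Subgroup.mem_comap, QuotientGroup.mk'_apply, (QuotientGroup.eq_one_iff x).mpr hx]
      exact one_mem M
    rw [hmap, Subgroup.map_le_iff_le_comap]
    by_contra hc
    have := le_antisymm hle (hmax ⟨inferInstance, hc⟩ hle)
    exact hne (Subgroup.comap_injective (QuotientGroup.mk'_surjective K)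
      (by rw [← this, MonoidHom.comap_bot, QuotientGroup.ker_mk']))
  refine ⟨s, hs, fun χ d hd => or_iff_not_imp_left.mpr fun hd1 => ?_⟩
  have hdp : d.Prime := (h χ d hd).resolve_left hd1
  by_contra hds
  have hcop : d.Coprime K.index :=
    hdp.coprime_iff_not_dvd.mpr fun hdvd => hds (hsr d hdp hdvd)
  obtain ⟨β, hβ⟩ : ∃ β : IrrCharacter (G ⧸ K), (β : G ⧸ K → ℂ) 1 ≠ 1 := by
    by_contra h'
    push_neg at h'
    refine hQna (le_bot_iff.mp ?_)
    rw [commutator_def, Subgroup.commutator_le]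
    exact fun a _ b _ => Subgroup.mem_bot.mpr
      (commutatorElement_eq_one_iff_mul_comm.mpr ((Cfsg.Agent.S0187.result (G := G ⧸ K)).mpr h' a b))
  obtain ⟨b, -, hb⟩ := exists_nat_degree_irr β.2
  have hb1 : b ≠ 1 := fun e => hβ (by rw [hb, e, Nat.cast_one])
  have hirr := isIrr_mul_inflate K χ.2 (restrict_irr_of_coprime K χ.2 hd hcop) β.2
  rcases h ⟨_, hirr⟩ (b * d) (by simp [hb, hd]) with h1 | h1
  · exact hb1 (Nat.eq_one_of_mul_eq_one_right h1)
  · exact Nat.not_prime_mul hb1 hdp.one_lt.ne' h1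

end CfsgLib.PrimeDegrees
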